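import Cfsg.Agent.EqLemmas

/-!
# Poisson summation for Gaussians of positive definite quadratic forms on `ℤ^m`

Main results: `summable_gauss` and `gauss_poisson`: for a real positive definite matrix `B` there is
a positive constant `C` such that, for `0 < re w` and every complex shift `b`,
`∑ exp (-π w Q_B x + 2π b·x) = C / (√w)^m * ∑ exp (-π/w Q_{B⁻¹} (k + i b))`.
-/

set_option autoImplicit false

noncomputable section

namespace Cfsg.Agent.Theta

open Matrix Complex
open scoped Real

variable {m : ℕ}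

/-- A real matrix seen over the complex numbers. -/
def toC (M : Matrix (Fin m) (Fin m) ℝ) : Matrix (Fin m) (Fin m) ℂ :=
  M.map Complex.ofRealHom

/-- The quadratic form of a square matrix. -/
def quad {R : Type*} [CommRing R] (M : Matrix (Fin m) (Fin m) R) (u : Fin m → R) : R :=
  u ⬝ᵥ (M *ᵥ u)

/-- An integer vector over the reals. -/
def rv (x : Fin m → ℤ) : Fin m → ℝ := fun i => (x i : ℝ)

/-- An integer vector over the complex numbers. -/
def cv (x : Fin m → ℤ) : Fin m → ℂ := fun i => (x i : ℂ)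

theorem quad_cv (M : Matrix (Fin m) (Fin m) ℝ) (x : Fin m → ℤ) :
    quad (toC M) (cv x) = ((quad M (rv x) : ℝ) : ℂ) := by
  simp [quad, toC, cv, rv, dotProduct, mulVec]

theorem quad_pos {M : Matrix (Fin m) (Fin m) ℝ} (hM : M.PosDef) {v : Fin m → ℝ} (hv : v ≠ 0) :
    0 < quad M v := by
  simpa [quad] using hM.dotProduct_mulVec_pos hv

theorem quad_smul {R : Type*} [CommRing R] (M : Matrix (Fin m) (Fin m) R) (c : R) (v : Fin m → R) :
    quad M (c • v) = c ^ 2 * quad M v := by
  simp only [quad, mulVec_smul, smul_dotProduct, dotProduct_smul, smul_eq_mul]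
  ring

theorem symm_dot {R : Type*} [CommRing R] {M : Matrix (Fin m) (Fin m) R} (hM : M.IsSymm)
    (u v : Fin m → R) : u ⬝ᵥ (M *ᵥ v) = v ⬝ᵥ (M *ᵥ u) := by
  rw [dotProduct_mulVec, ← mulVec_transpose, hM.eq, dotProduct_comm]

theorem exists_lower {M : Matrix (Fin m) (Fin m) ℝ} (hM : M.PosDef) :
    ∃ ε : ℝ, 0 < ε ∧ ∀ v : Fin m → ℝ, ε * ∑ i, v i ^ 2 ≤ quad M v := by
  rcases Nat.eq_zero_or_pos m with rfl | hm
  · exact ⟨1, one_pos, fun v => by simp [quad, dotProduct]⟩
  have hcomp : IsCompact {v : Fin m → ℝ | ∑ i, v i ^ 2 = 1} := by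
    refine Metric.isCompact_of_isClosed_isBounded
      (isClosed_eq (by fun_prop) continuous_const) ?_
    refine (Metric.isBounded_iff_subset_closedBall (0 : Fin m → ℝ)).2 ⟨1, fun v hv => ?_⟩
    rw [mem_closedBall_zero_iff, pi_norm_le_iff_of_nonneg zero_le_one]
    intro i
    have h1 : v i ^ 2 ≤ 1 := by
      rw [← show ∑ i, v i ^ 2 = 1 from hv]
      exact Finset.single_le_sum (fun j _ => sq_nonneg (v j)) (Finset.mem_univ i)
    rw [Real.norm_eq_abs]
    exact (sq_le_one_iff_abs_le_one _).1 h1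
  have hne : {v : Fin m → ℝ | ∑ i, v i ^ 2 = 1}.Nonempty :=
    ⟨Pi.single ⟨0, hm⟩ 1, by simp [Pi.single_apply]⟩
  obtain ⟨v₀, hv₀, hmin⟩ := hcomp.exists_isMinOn hne
    (f := quad M) (Continuous.continuousOn (by
      show Continuous fun v : Fin m → ℝ => ∑ i, v i * ∑ j, M i j * v j
      fun_prop))
  have hv0 : v₀ ≠ 0 := by
    rintro rfl
    simp at hv₀
  refine ⟨quad M v₀, quad_pos hM hv0, fun v => ?_⟩
  rcases (Finset.sum_nonneg fun i _ => sq_nonneg (v i)).eq_or_lt with h | h
  · have : v = 0 := by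
      funext i
      simpa using (Finset.sum_eq_zero_iff_of_nonneg fun i _ => sq_nonneg (v i)).1 h.symm i
        (Finset.mem_univ i)
    subst this
    simp [quad]
  · set s := ∑ i, v i ^ 2
    have hmem : (Real.sqrt s)⁻¹ • v ∈ {v : Fin m → ℝ | ∑ i, v i ^ 2 = 1} := by
      simp only [Set.mem_setOf_eq, Pi.smul_apply, smul_eq_mul, mul_pow, ← Finset.mul_sum, inv_pow,
        Real.sq_sqrt h.le]
      exact inv_mul_cancel₀ h.ne'
    have := hmin hmem
    rw [Set.mem_setOf_eq, quad_smul, inv_pow, Real.sq_sqrt h.le] at this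
    rw [inv_mul_eq_div, le_div_iff₀ h] at this
    exact this

/-- Products of one-variable summable families are summable on `ℤ^m`. -/
theorem summable_prod : ∀ {m : ℕ} {f : Fin m → ℤ → ℝ}, (∀ i n, 0 ≤ f i n) →
    (∀ i, Summable (f i)) → Summable fun x : Fin m → ℤ => ∏ i, f i (x i)
  | 0, _, _, _ => (hasSum_fintype _).summable
  | m + 1, f, h0, hs => by
    rw [← (Fin.consEquiv fun _ : Fin (m + 1) => ℤ).summable_iff]
    have h := (hs 0).mul_of_nonneg
      (summable_prod (f := fun i => f i.succ) (fun i => h0 _) (fun i => hs _))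
      (fun n => h0 0 n) (fun x => Finset.prod_nonneg fun i _ => h0 _ _)
    refine h.congr fun p => ?_
    simp [Fin.prod_univ_succ]

/-- The summand of a shifted Gaussian theta series. -/
def term (M : Matrix (Fin m) (Fin m) ℝ) (w : ℂ) (b : Fin m → ℂ) (x : Fin m → ℤ) : ℂ :=
  cexp (-π * w * quad (toC M) (cv x) + 2 * π * (b ⬝ᵥ cv x))

theorem norm_term (M : Matrix (Fin m) (Fin m) ℝ) (w : ℂ) (b : Fin m → ℂ) (x : Fin m → ℤ) :
    ‖term M w b x‖ =
      Real.exp (-π * w.re * quad M (rv x) + 2 * π * ∑ i, (b i).re * (x i : ℝ)) := by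
  rw [term, quad_cv, Complex.norm_exp]
  simp [dotProduct, cv]

theorem summable_gauss {M : Matrix (Fin m) (Fin m) ℝ} (hM : M.PosDef) {w : ℂ} (hw : 0 < w.re)
    (b : Fin m → ℂ) : Summable (fun x => ‖term M w b x‖) := by
  obtain ⟨ε, hε, hle⟩ := exists_lower hM
  have h1 : ∀ i : Fin m, Summable fun n : ℤ =>
      Real.exp (-π * (w.re * ε * n ^ 2 - 2 * |(b i).re| * |n|)) := by
    intro i
    simpa using summable_pow_mul_jacobiTheta₂_term_bound |(b i).re| (mul_pos hw hε) 0
  refine Summable.of_nonneg_of_le (fun x => norm_nonneg _) (fun x => ?_)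
    (summable_prod (fun i n => (Real.exp_pos _).le) h1)
  rw [norm_term, ← Real.exp_sum, Real.exp_le_exp]
  have h2 : ∑ i, (b i).re * (x i : ℝ) ≤ ∑ i, |(b i).re| * |(x i : ℝ)| :=
    Finset.sum_le_sum fun i _ => by rw [← abs_mul]; exact le_abs_self _
  have h3 := mul_le_mul_of_nonneg_left (hle (rv x)) (mul_nonneg Real.pi_pos.le hw.le)
  have h4 : ∑ i, -π * (w.re * ε * (x i : ℝ) ^ 2 - 2 * |(b i).re| * |(x i : ℝ)|) =
      -(π * w.re) * (ε * ∑ i, rv x i ^ 2) + 2 * π * ∑ i, |(b i).re| * |(x i : ℝ)| := by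
    simp only [Finset.mul_sum, ← Finset.sum_add_distrib]
    exact Finset.sum_congr rfl fun i _ => by simp only [rv]; ring
  simp only [Int.cast_abs]
  rw [h4]
  nlinarith [h2, h3, Real.pi_pos]

/-! ### One step of completing the square -/

section Schur

variable {R : Type*} [Field R]

/-- The first column without its corner entry. -/
def col (B : Matrix (Fin (m + 1)) (Fin (m + 1)) R) : Fin m → R := fun i => B i.succ 0

/-- The Schur complement of the corner entry. -/
def schur (B : Matrix (Fin (m + 1)) (Fin (m + 1)) R) : Matrix (Fin m) (Fin m) R :=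
  fun i j => B i.succ j.succ - col B i * col B j / B 0 0

theorem schur_mulVec (B : Matrix (Fin (m + 1)) (Fin (m + 1)) R) (y : Fin m → R) (i : Fin m) :
    (schur B *ᵥ y) i = (∑ j, B i.succ j.succ * y j) - col B i * (col B ⬝ᵥ y) / B 0 0 := by
  simp only [schur, mulVec, dotProduct, sub_mul, Finset.sum_sub_distrib, Finset.mul_sum,
    Finset.sum_div]
  congr 1
  exact Finset.sum_congr rfl fun j _ => by ring

theorem mulVec_cons_zero {B : Matrix (Fin (m + 1)) (Fin (m + 1)) R} (hB : B.IsSymm) (a : R)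
    (y : Fin m → R) : (B *ᵥ Fin.cons a y) 0 = B 0 0 * a + col B ⬝ᵥ y := by
  simp [mulVec, dotProduct, Fin.sum_univ_succ, col, hB.apply 0]

theorem mulVec_cons_succ (B : Matrix (Fin (m + 1)) (Fin (m + 1)) R) (a : R) (y : Fin m → R)
    (i : Fin m) : (B *ᵥ Fin.cons a y) i.succ = col B i * a + ∑ j, B i.succ j.succ * y j := by
  simp [mulVec, dotProduct, Fin.sum_univ_succ, col]

theorem quad_cons {B : Matrix (Fin (m + 1)) (Fin (m + 1)) R} (hB : B.IsSymm) (h0 : B 0 0 ≠ 0)
    (a : R) (y : Fin m → R) :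
    quad B (Fin.cons a y) = B 0 0 * (a + col B ⬝ᵥ y / B 0 0) ^ 2 + quad (schur B) y := by
  have e : quad (schur B) y =
      ∑ i, y i * (∑ j, B i.succ j.succ * y j) - (col B ⬝ᵥ y) ^ 2 / B 0 0 := by
    simp only [quad, dotProduct.eq_def y, schur_mulVec, mul_sub, Finset.sum_sub_distrib]
    congr 1
    rw [sq, dotProduct.eq_def, Finset.sum_mul, Finset.sum_div]
    exact Finset.sum_congr rfl fun i _ => by ring
  rw [e, quad, dotProduct.eq_def, Fin.sum_univ_succ]
  simp only [Fin.cons_zero, Fin.cons_succ, mulVec_cons_zero hB, mulVec_cons_succ, mul_add,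
    Finset.sum_add_distrib]
  have e2 : ∑ i, y i * (col B i * a) = a * (col B ⬝ᵥ y) := by
    rw [dotProduct.eq_def, Finset.mul_sum]
    exact Finset.sum_congr rfl fun i _ => by ring
  rw [e2]
  field_simp
  ring

theorem quad_inv_cons {B : Matrix (Fin (m + 1)) (Fin (m + 1)) R}
    {Bi : Matrix (Fin (m + 1)) (Fin (m + 1)) R} {Si : Matrix (Fin m) (Fin m) R}
    (hB : B.IsSymm) (h0 : B 0 0 ≠ 0) (hBi : Bi * B = 1) (hSi : schur B * Si = 1) (a : R)
    (u : Fin m → R) :
    quad Bi (Fin.cons a u) = a ^ 2 / B 0 0 + quad Si (u - (a / B 0 0) • col B) := by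
  set r := u - (a / B 0 0) • col B with hr
  set v := Si *ᵥ r with hv
  have hS : schur B *ᵥ v = r := by rw [hv, mulVec_mulVec, hSi, one_mulVec]
  have key : B *ᵥ Fin.cons ((a - col B ⬝ᵥ v) / B 0 0) v = Fin.cons a u := by
    funext i
    refine Fin.cases ?_ (fun j => ?_) i
    · rw [mulVec_cons_zero hB, Fin.cons_zero]; field_simp; ring
    · rw [mulVec_cons_succ, Fin.cons_succ]
      have h := congrFun hS j
      rw [schur_mulVec] at h
      simp only [hr, Pi.sub_apply, Pi.smul_apply, smul_eq_mul] at h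
      linear_combination h
  calc quad Bi (Fin.cons a u)
      = Fin.cons a u ⬝ᵥ Fin.cons ((a - col B ⬝ᵥ v) / B 0 0) v := by
        rw [quad]
        congr 1
        rw [← key, mulVec_mulVec, hBi, one_mulVec]
    _ = a ^ 2 / B 0 0 + quad Si r := by
        rw [quad, ← hv, dotProduct.eq_def (Fin.cons a u), Fin.sum_univ_succ]
        simp only [Fin.cons_zero, Fin.cons_succ, hr, sub_dotProduct, smul_dotProduct, smul_eq_mul]
        simp only [dotProduct]
        ring

end Schur

theorem map_schur (B : Matrix (Fin (m + 1)) (Fin (m + 1)) ℝ) :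
    toC (schur B) = schur (toC B) := by
  ext i j
  simp [toC, schur, col]

theorem isSymm_of_posDef {M : Matrix (Fin m) (Fin m) ℝ} (hM : M.PosDef) : M.IsSymm := by
  simpa [Matrix.IsHermitian, Matrix.conjTranspose_eq_transpose_of_trivial, Matrix.IsSymm] using hM.isHermitian

theorem posDef_of {M : Matrix (Fin m) (Fin m) ℝ} (h : M.IsSymm)
    (hp : ∀ v, v ≠ 0 → 0 < quad M v) : M.PosDef :=
  Matrix.PosDef.of_dotProduct_mulVec_pos
    (by simpa [Matrix.IsHermitian, Matrix.conjTranspose_eq_transpose_of_trivial, Matrix.IsSymm] using h)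
    (fun v hv => by simpa [quad] using hp v hv)

theorem isSymm_toC {M : Matrix (Fin m) (Fin m) ℝ} (h : M.IsSymm) : (toC M).IsSymm :=
  h.map _

theorem schur_posDef {B : Matrix (Fin (m + 1)) (Fin (m + 1)) ℝ} (hB : B.PosDef) :
    (schur B).PosDef := by
  have hs := isSymm_of_posDef hB
  have h0 : 0 < B 0 0 := hB.diag_pos
  refine posDef_of (Matrix.IsSymm.ext fun i j => ?_) fun y hy => ?_
  · simp only [schur, hs.apply, mul_comm (col B i)]
  · have := quad_pos hB (v := Fin.cons (-(col B ⬝ᵥ y / B 0 0)) y) (fun h => hy (by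
      funext i; simpa using congrFun h i.succ))
    rw [quad_cons hs h0.ne'] at this
    simpa using this

theorem toC_inv_mul {M : Matrix (Fin m) (Fin m) ℝ} (hM : M.PosDef) :
    toC M⁻¹ * toC M = 1 ∧ toC M * toC M⁻¹ = 1 := by
  have hu : IsUnit M.det := (Matrix.isUnit_iff_isUnit_det M).1 hM.isUnit
  constructor
  · rw [toC, toC, ← Matrix.map_mul, Matrix.nonsing_inv_mul M hu,
      Matrix.map_one _ (map_zero _) (map_one _)]
  · rw [toC, toC, ← Matrix.map_mul, Matrix.mul_nonsing_inv M hu,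
      Matrix.map_one _ (map_zero _) (map_one _)]

theorem inv_posDef {M : Matrix (Fin m) (Fin m) ℝ} (hM : M.PosDef) : M⁻¹.PosDef := by
  have hu : IsUnit M.det := (Matrix.isUnit_iff_isUnit_det M).1 hM.isUnit
  have hs := isSymm_of_posDef hM
  refine posDef_of (by rw [Matrix.IsSymm, transpose_nonsing_inv, hs.eq]) fun v hv => ?_
  have hne : M⁻¹ *ᵥ v ≠ 0 := by
    intro h
    apply hv
    rw [← one_mulVec v, ← Matrix.mul_nonsing_inv M hu, ← mulVec_mulVec, h, mulVec_zero]
  have := quad_pos hM hne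
  rwa [quad, mulVec_mulVec, Matrix.mul_nonsing_inv M hu, one_mulVec, dotProduct_comm] at this

theorem half_cpow {α : ℝ} (hα : 0 < α) {w : ℂ} (hw : w ≠ 0) :
    ((α : ℂ) * w) ^ (1 / 2 : ℂ) = (Real.sqrt α : ℂ) * w ^ (1 / 2 : ℂ) := by
  rw [cpow_def_of_ne_zero (mul_ne_zero (ofReal_ne_zero.2 hα.ne') hw), cpow_def_of_ne_zero hw,
    log_ofReal_mul hα hw, add_mul, Complex.exp_add, Real.sqrt_eq_rpow, Real.rpow_def_of_pos hα]
  push_cast
  rfl

theorem re_inv_pos {w : ℂ} (hw : 0 < w.re) : 0 < (w⁻¹).re := by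
  rw [Complex.inv_re]
  exact div_pos hw (normSq_pos.2 (fun h => by rw [h] at hw; simp at hw))

/-- The summand of the transformed series. -/
def dualTerm (M : Matrix (Fin m) (Fin m) ℝ) (w : ℂ) (b : Fin m → ℂ) (k : Fin m → ℤ) : ℂ :=
  cexp (-π / w * quad (toC M) (cv k + Complex.I • b))

theorem dualTerm_eq {M : Matrix (Fin m) (Fin m) ℝ} (hM : M.IsSymm) (w : ℂ) (b : Fin m → ℂ)
    (k : Fin m → ℤ) :
    dualTerm M w b k = term M w⁻¹ ((-Complex.I / w) • (toC M *ᵥ b)) k *
      cexp (π / w * quad (toC M) b) := by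
  rw [dualTerm, term, ← Complex.exp_add]
  congr 1
  simp only [quad, mulVec_add, mulVec_smul, add_dotProduct, dotProduct_add, smul_dotProduct,
    dotProduct_smul, smul_eq_mul, symm_dot (isSymm_toC hM) b (cv k)]
  rw [dotProduct_comm (toC M *ᵥ b) (cv k)]
  ring_nf
  simp only [Complex.I_sq]
  ring

theorem summable_dual {M : Matrix (Fin m) (Fin m) ℝ} (hM : M.PosDef) {w : ℂ} (hw : 0 < w.re)
    (b : Fin m → ℂ) : Summable (dualTerm M w b) := by
  simp_rw [funext (dualTerm_eq (isSymm_of_posDef hM) w b)]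
  exact ((summable_gauss hM (re_inv_pos hw) _).of_norm).mul_right _

/-- **Poisson summation** for the Gaussian of a positive definite quadratic form. -/
theorem gauss_poisson : ∀ {m : ℕ} {B : Matrix (Fin m) (Fin m) ℝ}, B.PosDef →
    ∃ C : ℝ, 0 < C ∧ ∀ w : ℂ, 0 < w.re → ∀ b : Fin m → ℂ,
      ∑' x, term B w b x =
        (C : ℂ) / (w ^ (1 / 2 : ℂ)) ^ m * ∑' k, dualTerm B⁻¹ w b k
  | 0, B, _ => ⟨1, one_pos, fun w _ b => by
      simp [tsum_fintype, term, dualTerm, quad, dotProduct]⟩
  | m + 1, B, hB => by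
    have hS := schur_posDef hB
    obtain ⟨C, hC, hIH⟩ := gauss_poisson hS
    set α := B 0 0 with hαdef
    have hα : 0 < α := hB.diag_pos
    have hαC : (α : ℂ) ≠ 0 := ofReal_ne_zero.2 hα.ne'
    refine ⟨C / Real.sqrt α, div_pos hC (Real.sqrt_pos.2 hα), fun w hw b => ?_⟩
    have hw0 : w ≠ 0 := fun h => by rw [h] at hw; simp at hw
    have hsymm := isSymm_toC (isSymm_of_posDef hB)
    have h00 : toC B 0 0 = (α : ℂ) := rfl
    set b0 := b 0
    set bt : Fin m → ℂ := fun i => b i.succ
    set lC := col (toC B) with hlC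
    set bs : ℤ → Fin m → ℂ := fun k => bt + (Complex.I * ((k : ℂ) + Complex.I * b0) / α) • lC
    set K : ℤ → ℂ := fun k => cexp (-π / (w * α) * ((k : ℂ) + Complex.I * b0) ^ 2)
    set E := fun p : (Fin m → ℤ) × ℤ => K p.2 * term (schur B) w (bs p.2) p.1 with hEdef
    have hwα : 0 < (w * (α : ℂ)).re := by simpa using mul_pos hw hα
    have hlreal : ∀ i, (lC i).im = 0 := fun i => rfl
    have hK : Summable fun k : ℤ => ‖K k‖ := by
      have h := summable_gauss (m := 1) (M := 1) Matrix.PosDef.one (re_inv_pos hwα)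
        (fun _ => -Complex.I * b0 / (w * α))
      have h' := ((Equiv.funUnique (Fin 1) ℤ).symm.summable_iff.2 h).mul_right
        ‖cexp (π * b0 ^ 2 / (w * α))‖
      refine h'.congr fun k => ?_
      rw [Function.comp_apply, ← norm_mul, term, ← Complex.exp_add]
      simp only [K]
      congr 2
      simp only [quad, toC, Matrix.map_one _ (map_zero _) (map_one _), one_mulVec, dotProduct,
        Fin.sum_univ_one, cv, Equiv.funUnique_symm_apply, uniqueElim_const]
      linear_combination (π * b0 ^ 2 / (w * α)) * Complex.I_sq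
    have hE : Summable E := by
      apply Summable.of_norm
      have hnorm : ∀ p, ‖E p‖ = ‖term (schur B) w (bs 0) p.1‖ * ‖K p.2‖ := by
        intro p
        rw [hEdef, norm_mul, mul_comm, norm_term, norm_term]
        congr 4
        refine Finset.sum_congr rfl fun i _ => ?_
        simp [bs, Complex.mul_re, Complex.mul_im, Complex.div_ofReal_re, Complex.div_ofReal_im,
          hlreal i]
      simp_rw [hnorm]
      exact (summable_gauss hS hw (bs 0)).mul_of_nonneg hK (fun _ => norm_nonneg _)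
        (fun _ => norm_nonneg _)
    -- the sum over the first coordinate
    have hinner : ∀ y : Fin m → ℤ, ∑' n : ℤ, term B w b (Fin.cons n y) =
        1 / (w * (α : ℂ)) ^ (1 / 2 : ℂ) * ∑' k : ℤ, E (y, k) := by
      intro y
      have hcons : ∀ n : ℤ, cv (Fin.cons n y : Fin (m + 1) → ℤ) = Fin.cons (n : ℂ) (cv y) := by
        intro n; funext i; refine Fin.cases ?_ (fun j => ?_) i <;> simp [cv]
      have hq : ∀ n : ℤ, quad (toC B) (Fin.cons (n : ℂ) (cv y)) =
          α * ((n : ℂ) + lC ⬝ᵥ cv y / α) ^ 2 + quad (toC (schur B)) (cv y) := by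
        intro n
        rw [map_schur, quad_cons hsymm (by rw [h00]; exact hαC), h00]
      have hdot : ∀ n : ℤ, b ⬝ᵥ Fin.cons (n : ℂ) (cv y) = b0 * n + bt ⬝ᵥ cv y := by
        intro n; simp [dotProduct, Fin.sum_univ_succ, b0, bt]
      set L := lC ⬝ᵥ cv y
      set R : ℂ := -π * w * (L ^ 2 / α + quad (toC (schur B)) (cv y)) + 2 * π * (bt ⬝ᵥ cv y)
      have hterm : ∀ n : ℤ, term B w b (Fin.cons n y) =
          cexp R * cexp (-π * (w * α) * (n : ℂ) ^ 2 + 2 * π * (b0 - w * L) * n) := by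
        intro n
        rw [term, hcons, hq, hdot, ← Complex.exp_add]
        congr 1
        simp only [R]
        field_simp
        ring
      simp_rw [hterm]
      rw [tsum_mul_left, Complex.tsum_exp_neg_quadratic hwα, mul_left_comm, ← tsum_mul_left]
      congr 1
      refine tsum_congr fun k => ?_
      rw [hEdef, ← Complex.exp_add]
      simp only [K, term, ← Complex.exp_add]
      congr 1
      have hb : bs k ⬝ᵥ cv y = bt ⬝ᵥ cv y + Complex.I * ((k : ℂ) + Complex.I * b0) / α * L := by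
        simp [bs, add_dotProduct, L]
      rw [hb]
      simp only [R]
      field_simp
      ring_nf
      simp only [Complex.I_sq]
      ring
    -- reorganise
    let e := (Equiv.prodComm (Fin m → ℤ) ℤ).trans (Fin.consEquiv fun _ : Fin (m + 1) => ℤ)
    have hsum : Summable fun p => term B w b (e p) :=
      e.summable_iff.2 (summable_gauss hB hw b).of_norm
    have hsum' : Summable fun p : ℤ × (Fin m → ℤ) =>
        dualTerm B⁻¹ w b (Fin.consEquiv (fun _ : Fin (m + 1) => ℤ) p) :=
      (Equiv.summable_iff _).2 (summable_dual (inv_posDef hB) hw b)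
    have hdual : ∀ (k : ℤ) (k' : Fin m → ℤ),
        dualTerm B⁻¹ w b (Fin.cons k k') = K k * dualTerm (schur B)⁻¹ w (bs k) k' := by
      intro k k'
      have hc : cv (Fin.cons k k' : Fin (m + 1) → ℤ) + Complex.I • b =
          Fin.cons ((k : ℂ) + Complex.I * b0) (cv k' + Complex.I • bt) := by
        funext i; refine Fin.cases ?_ (fun j => ?_) i <;> simp [cv, b0, bt]
      have hcol : cv k' + Complex.I • bt - (((k : ℂ) + Complex.I * b0) / α) • lC =
          cv k' + Complex.I • bs k := by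
        funext i
        simp only [bs, Pi.sub_apply, Pi.add_apply, Pi.smul_apply, smul_eq_mul]
        linear_combination (-(((k : ℂ) + Complex.I * b0) / α * lC i)) * Complex.I_sq
      simp only [dualTerm, K]
      rw [hc, quad_inv_cons hsymm (by rw [h00]; exact hαC) (toC_inv_mul hB).1
        (by rw [← map_schur]; exact (toC_inv_mul hS).2), h00, ← hlC, hcol, ← Complex.exp_add]
      congr 1
      field_simp
      ring
    calc ∑' x, term B w b x = ∑' y, ∑' n : ℤ, term B w b (Fin.cons n y) := by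
          rw [← e.tsum_eq, hsum.tsum_prod]
          rfl
      _ = 1 / (w * (α : ℂ)) ^ (1 / 2 : ℂ) * ∑' y, ∑' k, E (y, k) := by
          simp_rw [hinner, tsum_mul_left]
      _ = 1 / (w * (α : ℂ)) ^ (1 / 2 : ℂ) * ∑' k, ∑' y, E (y, k) := by
          rw [← hE.tsum_comm]
      _ = 1 / (w * (α : ℂ)) ^ (1 / 2 : ℂ) * ((C : ℂ) / (w ^ (1 / 2 : ℂ)) ^ m *
            ∑' k, ∑' k', dualTerm B⁻¹ w b (Fin.cons k k')) := by
          congr 1
          rw [← tsum_mul_left]
          refine tsum_congr fun k => ?_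
          simp_rw [hEdef, hdual, tsum_mul_left, hIH w hw (bs k)]
          ring
      _ = _ := by
          rw [← (Fin.consEquiv fun _ : Fin (m + 1) => ℤ).tsum_eq (dualTerm B⁻¹ w b),
            hsum'.tsum_prod, mul_comm w (α : ℂ), half_cpow hα hw0]
          simp only [Fin.consEquiv, Equiv.coe_fn_mk]
          push_cast
          ring

end Cfsg.Agent.Theta
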