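import Cfsg.Agent.Lib.Theta.Gauss

/-!
# The theta series of an even unimodular lattice of rank 24

Main results: `thetaForm` (a modular form of weight 12 and level one),
`qExpansion_thetaForm_coeff` (its coefficients count lattice vectors) and `repNum_zero`.
-/

set_option autoImplicit false

noncomputable section

namespace Cfsg.Agent.Theta

open Matrix Complex UpperHalfPlane ModularForm Function
open scoped Real MatrixGroups Manifold ModularForm Topology

/-- A Gram matrix of a positive definite even unimodular lattice of rank 24. -/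
structure EvenUnimodular (B : Matrix (Fin 24) (Fin 24) ℤ) : Prop where
  symm : B.IsSymm
  pos : ∀ x : Fin 24 → ℤ, x ≠ 0 → 0 < x ⬝ᵥ (B *ᵥ x)
  even : ∀ x : Fin 24 → ℤ, (2 : ℤ) ∣ x ⬝ᵥ (B *ᵥ x)
  det : B.det = 1

variable {B : Matrix (Fin 24) (Fin 24) ℤ}

/-- An integer matrix over the reals. -/
def toR (B : Matrix (Fin 24) (Fin 24) ℤ) : Matrix (Fin 24) (Fin 24) ℝ :=
  B.map (Int.castRingHom ℝ)

theorem quad_toR (B : Matrix (Fin 24) (Fin 24) ℤ) (x : Fin 24 → ℤ) :
    quad (toR B) (rv x) = ((x ⬝ᵥ (B *ᵥ x) : ℤ) : ℝ) := by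
  simp [quad, toR, rv, dotProduct, mulVec]

theorem toR_nonneg (hB : EvenUnimodular B) (v : Fin 24 → ℝ) : 0 ≤ quad (toR B) v := by
  have hcont : Continuous fun u : Fin 24 → ℝ => quad (toR B) u := by
    show Continuous fun u : Fin 24 → ℝ => ∑ i, u i * ∑ j, toR B i j * u j
    fun_prop
  let u : ℕ → Fin 24 → ℝ := fun n i => (⌊((n : ℝ) + 1) * v i⌋ : ℝ) / ((n : ℝ) + 1)
  have hu : Filter.Tendsto u Filter.atTop (𝓝 v) := by
    rw [tendsto_pi_nhds]
    intro i
    have h0 : Filter.Tendsto (fun n : ℕ => v i - 1 / ((n : ℝ) + 1)) Filter.atTop (𝓝 (v i)) := by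
      simpa using tendsto_const_nhds.sub (tendsto_one_div_add_atTop_nhds_zero_nat (𝕜 := ℝ))
    refine tendsto_of_tendsto_of_tendsto_of_le_of_le h0 tendsto_const_nhds (fun n => ?_) (fun n => ?_)
    · have h := Int.sub_one_lt_floor (((n : ℝ) + 1) * v i)
      have hn : (0 : ℝ) < (n : ℝ) + 1 := by positivity
      simp only [u]
      rw [le_div_iff₀ hn, sub_mul, div_mul_cancel₀ _ hn.ne']
      linarith
    · have h := Int.floor_le (((n : ℝ) + 1) * v i)
      have hn : (0 : ℝ) < (n : ℝ) + 1 := by positivity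
      simp only [u]
      rw [div_le_iff₀ hn]
      linarith
  refine ge_of_tendsto' ((hcont.tendsto v).comp hu) fun n => ?_
  let z : Fin 24 → ℤ := fun i => ⌊((n : ℝ) + 1) * v i⌋
  have e : u n = ((n : ℝ) + 1)⁻¹ • rv z := by
    funext i; simp [u, z, rv, div_eq_inv_mul]
  rw [Function.comp_apply, e, quad_smul, quad_toR]
  rcases eq_or_ne z 0 with h | h
  · simp [h]
  · exact mul_nonneg (sq_nonneg _) (by exact_mod_cast (hB.pos z h).le)

theorem det_toR (hB : EvenUnimodular B) : (toR B).det = 1 := by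
  rw [toR, ← RingHom.mapMatrix_apply, ← RingHom.map_det, hB.det, map_one]

theorem toR_posDef (hB : EvenUnimodular B) : (toR B).PosDef := by
  have hs : (toR B).IsSymm := hB.symm.map _
  refine posDef_of hs fun v hv => lt_of_le_of_ne (toR_nonneg hB v) fun h0 => hv ?_
  have hz : toR B *ᵥ v = 0 := by
    set u := toR B *ᵥ v with hu
    have key : ∀ t : ℝ, 0 ≤ quad (toR B) u * (t * t) + 2 * (u ⬝ᵥ u) * t + 0 := by
      intro t
      have := toR_nonneg hB (v + t • u)
      rw [quad] at h0 ⊢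
      rw [quad, mulVec_add, mulVec_smul, add_dotProduct, dotProduct_add, dotProduct_add,
        smul_dotProduct, smul_dotProduct, dotProduct_smul, dotProduct_smul, symm_dot hs v u, ← hu,
        ← h0] at this
      simp only [smul_eq_mul] at this
      linarith
    have := discrim_le_zero key
    rw [discrim] at this
    have : u ⬝ᵥ u = 0 := by nlinarith [dotProduct_self_star_nonneg (v := u)]
    exact dotProduct_self_eq_zero.1 this
  exact Matrix.eq_zero_of_mulVec_eq_zero (by rw [det_toR hB]; exact one_ne_zero) hz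

theorem toR_inv (hB : EvenUnimodular B) : (toR B)⁻¹ = toR B.adjugate := by
  refine Matrix.inv_eq_right_inv ?_
  rw [toR, toR, ← Matrix.map_mul, Matrix.mul_adjugate, hB.det, one_smul,
    Matrix.map_one _ (map_zero _) (map_one _)]

/-- Multiplication by the Gram matrix, as a bijection of `ℤ^24`. -/
def gramEquiv (hB : EvenUnimodular B) : (Fin 24 → ℤ) ≃ (Fin 24 → ℤ) where
  toFun x := B *ᵥ x
  invFun x := B.adjugate *ᵥ x
  left_inv x := by
    show B.adjugate *ᵥ (B *ᵥ x) = x
    rw [mulVec_mulVec, adjugate_mul, hB.det, one_smul, one_mulVec]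
  right_inv x := by
    show B *ᵥ (B.adjugate *ᵥ x) = x
    rw [mulVec_mulVec, mul_adjugate, hB.det, one_smul, one_mulVec]

theorem quad_inv_gram (hB : EvenUnimodular B) (x : Fin 24 → ℤ) :
    quad (toC (toR B)⁻¹) (cv (gramEquiv hB x)) = quad (toC (toR B)) (cv x) := by
  rw [quad_cv, quad_cv, toR_inv hB, quad_toR, quad_toR]
  congr 2
  show (B *ᵥ x) ⬝ᵥ (B.adjugate *ᵥ (B *ᵥ x)) = _
  rw [mulVec_mulVec, adjugate_mul, hB.det, one_smul, one_mulVec, dotProduct_comm]

/-- Half the norm of a vector. -/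
def halfNorm (B : Matrix (Fin 24) (Fin 24) ℤ) (x : Fin 24 → ℤ) : ℕ :=
  (x ⬝ᵥ (B *ᵥ x) / 2).toNat

theorem two_halfNorm (hB : EvenUnimodular B) (x : Fin 24 → ℤ) :
    2 * (halfNorm B x : ℤ) = x ⬝ᵥ (B *ᵥ x) := by
  have h0 : 0 ≤ x ⬝ᵥ (B *ᵥ x) := by
    rcases eq_or_ne x 0 with rfl | h
    · simp
    · exact (hB.pos x h).le
  have := hB.even x
  unfold halfNorm
  omega

/-- The number of vectors of norm `2 n`. -/
def repNum (B : Matrix (Fin 24) (Fin 24) ℤ) (n : ℕ) : ℕ :=
  {x : Fin 24 → ℤ | x ⬝ᵥ (B *ᵥ x) = 2 * (n : ℤ)}.ncard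

/-- The theta series. -/
def thetaFun (B : Matrix (Fin 24) (Fin 24) ℤ) (τ : ℂ) : ℂ :=
  ∑' x, term (toR B) (-Complex.I * τ) 0 x

theorem term_eq_qParam (hB : EvenUnimodular B) (τ : ℂ) (x : Fin 24 → ℤ) :
    term (toR B) (-Complex.I * τ) 0 x = Periodic.qParam 1 τ ^ halfNorm B x := by
  rw [term, Periodic.qParam, ← Complex.exp_nat_mul, quad_cv, quad_toR, ← two_halfNorm hB x]
  simp only [zero_dotProduct, mul_zero, add_zero, ofReal_one, div_one]
  congr 1
  push_cast
  ring

theorem summable_theta (hB : EvenUnimodular B) {τ : ℂ} (hτ : 0 < τ.im) :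
    Summable fun x => ‖term (toR B) (-Complex.I * τ) 0 x‖ :=
  summable_gauss (toR_posDef hB) (by simpa using hτ) 0

theorem finite_norm (hB : EvenUnimodular B) (n : ℕ) :
    {x : Fin 24 → ℤ | x ⬝ᵥ (B *ᵥ x) = 2 * (n : ℤ)}.Finite := by
  have hs := summable_theta hB (τ := Complex.I) (by simp)
  simp_rw [term_eq_qParam hB, norm_pow] at hs
  have hq : 0 < ‖Periodic.qParam 1 Complex.I‖ ^ n := by
    have := Periodic.qParam_ne_zero (h := 1) Complex.I
    positivity
  refine (Filter.eventually_cofinite.1 (hs.tendsto_cofinite_zero.eventually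
    (eventually_lt_nhds hq))).subset fun x hx => ?_
  have h2 := two_halfNorm hB x
  rw [Set.mem_setOf_eq] at hx ⊢
  have : halfNorm B x = n := by omega
  rw [this]
  exact lt_irrefl _

theorem hasSum_theta (hB : EvenUnimodular B) {τ : ℂ} (hτ : 0 < τ.im) :
    HasSum (fun n : ℕ => (repNum B n : ℂ) • Periodic.qParam 1 τ ^ n) (thetaFun B τ) := by
  have h := (summable_theta hB hτ).of_norm.hasSum
  rw [← (Equiv.sigmaFiberEquiv (halfNorm B)).hasSum_iff] at h
  refine h.sigma fun n => ?_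
  have hset : {x : Fin 24 → ℤ | halfNorm B x = n} =
      {x : Fin 24 → ℤ | x ⬝ᵥ (B *ᵥ x) = 2 * (n : ℤ)} := by
    ext x
    have := two_halfNorm hB x
    simp only [Set.mem_setOf_eq]
    omega
  have hfin : {x : Fin 24 → ℤ | halfNorm B x = n}.Finite := by rw [hset]; exact finite_norm hB n
  have : Fintype {x : Fin 24 → ℤ // halfNorm B x = n} := hfin.fintype
  have e : (fun c : {x : Fin 24 → ℤ // halfNorm B x = n} =>
      ((fun x => term (toR B) (-Complex.I * τ) 0 x) ∘ (Equiv.sigmaFiberEquiv (halfNorm B))) ⟨n, c⟩) =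
      fun _ => Periodic.qParam 1 τ ^ n := by
    funext c
    show term (toR B) (-Complex.I * τ) 0 c.1 = _
    rw [term_eq_qParam hB, c.2]
  rw [e]
  have hval : (repNum B n : ℂ) • Periodic.qParam 1 τ ^ n =
      ∑ _c : {x : Fin 24 → ℤ // halfNorm B x = n}, Periodic.qParam 1 τ ^ n := by
    rw [Finset.sum_const, Finset.card_univ, nsmul_eq_mul, smul_eq_mul, repNum, ← hset,
      ← Nat.card_coe_set_eq, ← Nat.card_eq_fintype_card]
    rfl
  rw [hval]
  exact hasSum_fintype _

theorem repNum_zero (hB : EvenUnimodular B) : repNum B 0 = 1 := by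
  have : {x : Fin 24 → ℤ | x ⬝ᵥ (B *ᵥ x) = 2 * ((0 : ℕ) : ℤ)} = {0} := by
    ext x
    simp only [Set.mem_setOf_eq, Set.mem_singleton_iff, Nat.cast_zero, mul_zero]
    refine ⟨fun h => ?_, fun h => by simp [h]⟩
    by_contra hne
    exact (hB.pos x hne).ne' h
  rw [repNum, this, Set.ncard_singleton]

theorem pow_half (w : ℂ) : (w ^ (1 / 2 : ℂ)) ^ 24 = w ^ 12 := by
  rw [show (24 : ℕ) = 2 * 12 from rfl, pow_mul, show (1 / 2 : ℂ) = ((2 : ℕ) : ℂ)⁻¹ by norm_num,
    cpow_nat_inv_pow w two_ne_zero]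

theorem theta_inversion (hB : EvenUnimodular B) :
    ∀ τ : ℂ, 0 < τ.im → thetaFun B τ = (τ ^ 12)⁻¹ * thetaFun B (-τ)⁻¹ := by
  obtain ⟨C, hC, hP⟩ := gauss_poisson (toR_posDef hB)
  have key : ∀ τ : ℂ, 0 < τ.im → thetaFun B τ = (C : ℂ) * ((τ ^ 12)⁻¹ * thetaFun B (-τ)⁻¹) := by
    intro τ hτ
    have hτ0 : τ ≠ 0 := fun h => by rw [h] at hτ; simp at hτ
    have hd : ∑' k, dualTerm (toR B)⁻¹ (-Complex.I * τ) 0 k = thetaFun B (-τ)⁻¹ := by
      rw [← (gramEquiv hB).tsum_eq (dualTerm (toR B)⁻¹ (-Complex.I * τ) 0)]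
      refine tsum_congr fun x => ?_
      rw [dualTerm, term, smul_zero, add_zero, quad_inv_gram hB, zero_dotProduct, mul_zero,
        add_zero]
      congr 2
      field_simp
      rw [Complex.I_sq]
      ring
    rw [thetaFun, hP _ (by simpa using hτ) 0, pow_half, hd, mul_pow,
      show (-Complex.I) ^ 12 = 1 by
        rw [show (12 : ℕ) = 2 * 6 from rfl, pow_mul, neg_sq, Complex.I_sq]; norm_num]
    ring
  have hCI := key Complex.I (by simp)
  have hI12 : Complex.I ^ 12 = 1 := by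
    rw [show (12 : ℕ) = 2 * 6 from rfl, pow_mul, Complex.I_sq]; norm_num
  have hI2 : (-Complex.I)⁻¹ = Complex.I := by rw [inv_neg, Complex.inv_I, neg_neg]
  rw [hI12, inv_one, one_mul, hI2] at hCI
  have hne : thetaFun B Complex.I ≠ 0 := by
    have hreal : thetaFun B Complex.I =
        ((∑' x : Fin 24 → ℤ, Real.exp (-π * quad (toR B) (rv x)) : ℝ) : ℂ) := by
      rw [thetaFun, Complex.ofReal_tsum]
      refine tsum_congr fun x => ?_
      rw [term, quad_cv, zero_dotProduct, neg_mul Complex.I, Complex.I_mul_I]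
      push_cast
      ring_nf
    rw [hreal, Complex.ofReal_ne_zero]
    refine (Summable.tsum_pos ?_ (fun x => (Real.exp_pos _).le) 0 (Real.exp_pos _)).ne'
    refine (summable_theta hB (τ := Complex.I) (by simp)).congr fun x => ?_
    rw [norm_term]
    simp
  have hC1 : (C : ℂ) = 1 := mul_right_cancel₀ hne (by rw [one_mul]; exact hCI.symm)
  intro τ hτ
  rw [key τ hτ, hC1, one_mul]

theorem theta_periodic (hB : EvenUnimodular B) (τ : ℂ) : thetaFun B (τ + 1) = thetaFun B τ := by
  refine tsum_congr fun x => ?_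
  rw [term_eq_qParam hB, term_eq_qParam hB]
  congr 1
  simp [Periodic.qParam, mul_add, Complex.exp_add]

theorem theta_differentiableOn (hB : EvenUnimodular B) :
    DifferentiableOn ℂ (thetaFun B) {τ : ℂ | 0 < τ.im} := by
  intro τ₀ hτ₀
  have h2 : 0 < τ₀.im / 2 := half_pos hτ₀
  have hopen : IsOpen {τ : ℂ | τ₀.im / 2 < τ.im} :=
    isOpen_lt continuous_const Complex.continuous_im
  have hle : ∀ (x : Fin 24 → ℤ) (τ : ℂ), τ ∈ {τ : ℂ | τ₀.im / 2 < τ.im} →
      ‖term (toR B) (-Complex.I * τ) 0 x‖ ≤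
        ‖term (toR B) (-Complex.I * (((τ₀.im / 2 : ℝ) : ℂ) * Complex.I)) 0 x‖ := by
    intro x τ hτ
    rw [norm_term, norm_term, Real.exp_le_exp]
    have hq := toR_nonneg hB (rv x)
    simp only [Pi.zero_apply, Complex.zero_re, zero_mul, Finset.sum_const_zero, mul_zero, add_zero]
    have hre : ∀ z : ℂ, (-Complex.I * z).re = z.im := fun z => by simp
    rw [hre, hre]
    simp only [Complex.mul_im, Complex.ofReal_re, Complex.ofReal_im, Complex.I_im, Complex.I_re,
      mul_one, mul_zero, zero_mul, add_zero]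
    have := mul_le_mul_of_nonneg_right (le_of_lt hτ) (mul_nonneg Real.pi_pos.le hq)
    linarith
  have hd := differentiableOn_tsum_of_summable_norm
    (summable_theta hB (τ := ((τ₀.im / 2 : ℝ) : ℂ) * Complex.I) (by simpa using h2))
    (F := fun x τ => term (toR B) (-Complex.I * τ) 0 x)
    (fun x => Differentiable.differentiableOn (by unfold term; fun_prop)) hopen hle
  exact (hd.differentiableAt (hopen.mem_nhds (show τ₀.im / 2 < τ₀.im from half_lt_self hτ₀))).differentiableWithinAt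

set_option backward.isDefEq.respectTransparency.types false in
theorem theta_slash (hB : EvenUnimodular B) (γ : SL(2, ℤ)) :
    (fun τ : ℍ => thetaFun B τ) ∣[(12 : ℤ)] γ = fun τ : ℍ => thetaFun B τ := by
  refine SlashInvariantForm.slash_action_generators_SL2Z ?_ ?_ γ
  · ext z
    rw [SL_slash_apply, UpperHalfPlane.modular_S_smul]
    rw [theta_inversion hB z z.im_pos]
    simp [denom, ModularGroup.S, _root_.zpow_neg, mul_comm]
  · ext z
    rw [SL_slash_apply, modular_T_smul]
    simp [denom, ModularGroup.T, _root_.zpow_neg, add_comm (1 : ℂ), theta_periodic hB]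

/-- The theta series as a modular form. -/
def thetaForm (hB : EvenUnimodular B) : ModularForm 𝒮ℒ 12 where
  toFun τ := thetaFun B τ
  slash_action_eq' A hA := by
    obtain ⟨A, rfl⟩ := hA
    exact theta_slash hB A
  holo' := by
    rw [UpperHalfPlane.mdifferentiable_iff]
    refine (theta_differentiableOn hB).congr fun z hz => ?_
    simp [ofComplex_apply_of_im_pos hz]
  bdd_at_cusps' hc := by
    rw [Subgroup.IsArithmetic.isCusp_iff_isCusp_SL2Z] at hc
    rw [OnePoint.isBoundedAt_iff_forall_SL2Z hc]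
    intro γ _
    rw [theta_slash hB]
    exact isBoundedAtImInfty_of_hasSum_qExpansion one_pos fun τ => hasSum_theta hB τ.im_pos

theorem qExpansion_thetaForm_coeff (hB : EvenUnimodular B) (n : ℕ) :
    (qExpansion 1 (thetaForm hB)).coeff n = (repNum B n : ℂ) :=
  (ModularFormClass.qExpansion_coeff_unique (f := thetaForm hB) one_pos one_mem_strictPeriods_SL
    (fun τ => hasSum_theta hB τ.im_pos) n).symm

end Cfsg.Agent.Theta
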